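import Cfsg.Agent.H347.S2274.ExcRed
import Cfsg.Agent.H28.T5TwFour
import Cfsg.Agent.H406.SRow.Untw
import Cfsg.Agent.H442.S5.SzC
import Cfsg.Agent.H823.S5.TwF
import Cfsg.Agent.H212.S5.PslTwo
import Cfsg.Agent.H140.S5.PSL2Own
import Cfsg.Agent.H951.S5.TwD
import Cfsg.Agent.H951.S5.TwE
import Cfsg.Agent.ClassicalGeometry.PSL2Solvable

/-!
# S2274: the strong rows of the exceptional groups (D2)

* `ExcPairs p` : the pairs of inner elements in cross characteristic (tasks 3619 - 3621);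
* `OwnTw p`, `ownTw_of` : the rows `²E₆(q)`, `³D₄(q)` in the own characteristic (task 3612, helper951);
* `srowFam_exc` : all exceptional groups.
-/

set_option autoImplicit false

universe u

namespace Cfsg.Agent.H347.S2274.ExcRow

open Cfsg Cfsg.Lie Cfsg.Agent.H533.T5 Cfsg.Agent.H957.T5M Cfsg.Agent.H106.MT Cfsg.Agent.H132.S5
open Cfsg.Agent.H347.S2274.ExcRed

/-- All pairs of elements of order `p` of `S` satisfy `SPair`. -/
def InPairs (p : ℕ) (S : Type u) [Group S] : Prop :=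
  ∀ x y : S, orderOf x = p → orderOf y = p → SPair p (⊤ : Subgroup S) x y

/-- **The pairs of inner elements in cross characteristic** (what the tasks 3619 - 3621 give). -/
structure ExcPairs (p : ℕ) : Prop where
  g2 : ∀ {S : Type u} [Group S] [Finite S] [IsSimpleGroup S] {F : Type} [Field F] [Fintype F],
    ¬ IsMulCommutative S → SBelow.{u} p (Nat.card S) → 3 ≤ Fintype.card F →
    ¬ p ∣ Fintype.card F → (S ≃* ↥(chevG2.group F)) → InPairs p S
  f4 : ∀ {S : Type u} [Group S] [Finite S] [IsSimpleGroup S] {F : Type} [Field F] [Fintype F],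
    ¬ IsMulCommutative S → SBelow.{u} p (Nat.card S) →
    ¬ p ∣ Fintype.card F → (S ≃* ↥(chevF4.group F)) → InPairs p S
  e6 : ∀ {S : Type u} [Group S] [Finite S] [IsSimpleGroup S] {F : Type} [Field F] [Fintype F],
    ¬ IsMulCommutative S → SBelow.{u} p (Nat.card S) →
    ¬ p ∣ Fintype.card F → ¬ p ∣ Fintype.card F ^ 2 - 1 → (S ≃* ↥(chevE6.group F)) → InPairs p S
  e7 : ∀ {S : Type u} [Group S] [Finite S] [IsSimpleGroup S] {F : Type} [Field F] [Fintype F],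
    ¬ IsMulCommutative S → SBelow.{u} p (Nat.card S) →
    ¬ p ∣ Fintype.card F → ¬ p ∣ Fintype.card F ^ 2 - 1 → (S ≃* ↥(chevE7.group F)) → InPairs p S
  e8 : ∀ {S : Type u} [Group S] [Finite S] [IsSimpleGroup S] {F : Type} [Field F] [Fintype F],
    ¬ IsMulCommutative S → SBelow.{u} p (Nat.card S) → 7 ≤ p →
    ¬ p ∣ Fintype.card F → ¬ p ∣ Fintype.card F ^ 2 - 1 → (S ≃* ↥(chevE8.group F)) → InPairs p S
  tw6 : ∀ {S : Type u} [Group S] [Finite S] [IsSimpleGroup S] {K : Type} [Field K] [Fintype K]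
    {q : ℕ}, ¬ IsMulCommutative S → SBelow.{u} p (Nat.card S) → IsPrimePow q →
    Fintype.card K = q ^ 2 → ¬ p ∣ q → ¬ p ∣ q ^ 2 - 1 → (S ≃* ↥(twistedE6 K q)) → InPairs p S
  td4 : ∀ {S : Type u} [Group S] [Finite S] [IsSimpleGroup S] {K : Type} [Field K] [Fintype K]
    {q : ℕ}, ¬ IsMulCommutative S → SBelow.{u} p (Nat.card S) → IsPrimePow q →
    Fintype.card K = q ^ 3 → ¬ p ∣ q → (S ≃* ↥(twistedD4 K q)) → InPairs p S

/-- The rows `²E₆(q)`, `³D₄(q)` in the own characteristic (task 3612). -/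
def OwnTw (p : ℕ) : Prop := SRowFam.{u} p (fun S _ => IsTwistedE6D4Char p S)

theorem r2_of {p : ℕ} (hp : p.Prime) (h5 : 5 ≤ p) (B : SBox.{u} p) : H406.SRow.Pan.R2 p := by
  intro F _ _ _
  have := Fintype.ofFinite F
  have e : ULift.{u} (Matrix.ProjectiveSpecialLinearGroup (Fin 2) F) ≃*
      Matrix.ProjectiveSpecialLinearGroup (Fin 2) F := MulEquiv.ulift
  exact Cfsg.Agent.H897.T5Sub.SRow.congr e
    (Cfsg.Agent.H140.S5.PSL2Own.srow_psl2_own' hp h5 B.aa B.rs e)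

theorem pslTwoCross_of {p : ℕ} (hp : p.Prime) (h5 : 5 ≤ p) (B : SBox.{u} p) : PslTwoCross p := by
  intro K _ _ hK hpK
  have e : ULift.{u} (Matrix.ProjectiveSpecialLinearGroup (Fin 2) K) ≃*
      Matrix.ProjectiveSpecialLinearGroup (Fin 2) K := MulEquiv.ulift
  have hs : IsSimpleGroup (Matrix.ProjectiveSpecialLinearGroup (Fin 2) K) :=
    Matrix.ProjectiveSpecialLinearGroup.rank_two_simple (by rw [Nat.card_eq_fintype_card]; omega)
  have hna : ¬ IsMulCommutative (Matrix.ProjectiveSpecialLinearGroup (Fin 2) K) := by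
    intro hc
    exact Cfsg.Agent.ClassicalGeometry.PSL2Solvable.not_isSolvable_psl K hK
      (IsSimpleGroup.comm_iff_isSolvable.1 fun a b => hc.is_comm.comm a b)
  have := e.isSimpleGroup
  have : Finite (Matrix.ProjectiveSpecialLinearGroup (Fin 2) K) := Cfsg.Agent.H452.FprPsl2.pfin
  exact Cfsg.Agent.H897.T5Sub.SRow.congr e
    (Cfsg.Agent.H212.S5.PslTwo.srow_psl2_cross hp h5 hpK B (not_comm_of e hna) e)

/-- **The rows `²E₆(q)`, `³D₄(q)` in the own characteristic** (helper951). -/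
theorem ownTw_of {p : ℕ} (hp : p.Prime) (h5 : 5 ≤ p) (B : SBox.{u} p) : OwnTw.{u} p := by
  rintro S _ _ _ hna ⟨K, _, _, _, q, hq, ⟨hK, ⟨e⟩⟩ | ⟨hK, ⟨e⟩⟩⟩ hlt
  · have := Fact.mk hp
    exact Cfsg.Agent.H951.S5.TwE.srow_twE6_own (K := K) p hp h5 B hq hK e hlt
  · have := Fact.mk hp
    exact Cfsg.Agent.H951.S5.TwD.srow_twD4_own (K := K) p hp h5 B hq hK e

theorem dich {q : ℕ} (h : ¬ 5 ∣ q) : 5 ∣ q ^ 2 - 1 ∨ 5 ∣ q ^ 2 + 1 := by
  have h1 : q % 5 < 5 := Nat.mod_lt _ (by norm_num)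
  have h2 : q ^ 2 % 5 = ((q % 5) ^ 2) % 5 := Nat.pow_mod q 2 5
  have h3 : q % 5 ≠ 0 := fun h3 => h (Nat.dvd_of_mod_eq_zero h3)
  have h4 : 1 ≤ q ^ 2 := Nat.one_le_pow _ _ (Nat.pos_of_ne_zero (by rintro rfl; simp at h3))
  interval_cases hq : q % 5
  · exact absurd rfl h3
  · left; omega
  · right; omega
  · right; omega
  · left; omega

/-! ### `G₂`, `F₄`, `³D₄` from the pairs of elements -/

section Rows

variable {S : Type u} [Group S] [Finite S] {p : ℕ} (hpp : p.Prime) (B : SBox.{u} p) (h5 : 5 ≤ p)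
  (hin : InPairs p S)

include hpp B h5 hin

theorem srow_g2_of {F : Type} [Field F] [Fintype F] (hF : 3 ≤ Fintype.card F)
    (hpF : ¬ p ∣ Fintype.card F) (e : S ≃* ↥(chevG2.group F)) : SRow p S := by
  have hs := S1055.result (F := F) (Cfsg.Agent.BpExc.RowsUntw.exists_ne hF)
  have := hs.1
  have := e.isSimpleGroup
  exact srow_of_ok B.aa B.rs hpp (not_comm_of e hs.2)
    (Cfsg.Agent.H28.T5RowsUntw.outerOk_g2 hpp h5 hF e)
    (Cfsg.Agent.H28.T5RowsUntw.homOk_g2 hpp h5 hF hpF e) hin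

theorem srow_f4_of {F : Type} [Field F] [Fintype F]
    (hpF : ¬ p ∣ Fintype.card F) (e : S ≃* ↥(chevF4.group F)) : SRow p S := by
  have hs : IsSimpleGroup ↥(chevF4.group F) ∧ ¬ IsMulCommutative ↥(chevF4.group F) :=
    S1054.result chevF4 (by simp)
  have := hs.1
  have := e.isSimpleGroup
  exact srow_of_ok B.aa B.rs hpp (not_comm_of e hs.2)
    (Cfsg.Agent.H28.T5RowsUntw.outerOk_f4 hpp h5 e)
    (Cfsg.Agent.H28.T5RowsUntw.homOk_f4 hpp h5 hpF e) hin

theorem srow_twD4_of {K : Type} [Field K] [Fintype K] {q : ℕ} (hq : IsPrimePow q)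
    (hK : Fintype.card K = q ^ 3) (hpq : ¬ p ∣ q) (e : S ≃* ↥(twistedD4 K q)) : SRow p S := by
  obtain ⟨hs, hna⟩ := Cfsg.Agent.S1071.result hq hK
  have := e.isSimpleGroup
  exact srow_of_ok B.aa B.rs hpp (not_comm_of e hna)
    (Cfsg.Agent.H28.T5TwFour.outerOk_twD4 hq hK hpp h5 hpq e)
    (Cfsg.Agent.H28.T5TwFour.homOk_twD4 hq hK hpp h5 hpq e) hin

end Rows

/-- **All exceptional groups.** -/
theorem srowFam_exc {p : ℕ} (hp : p.Prime) (h5 : 5 ≤ p) (B : SBox.{u} p)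
    (X : ExcPairs.{u} p) : SRowFam.{u} p (fun S _ => IsExceptionalLieType S) := by
  have hR := r2_of hp h5 B
  have hC := pslTwoCross_of hp h5 B
  have T : OwnTw.{u} p := ownTw_of hp h5 B
  intro S _ _ _ hna h hlt
  rcases h with h | h | h | h | h | h | h | h | h | h | h
  · obtain ⟨F, _, _, h3, ⟨e⟩⟩ := h
    by_cases hF : p ∣ Fintype.card F
    · exact H406.SRow.Untw.srow_own_G2 hp h5 hR hF e
    · exact srow_g2_of hp B h5 (X.g2 hna hlt h3 hF e) h3 hF e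
  · obtain ⟨F, _, _, ⟨e⟩⟩ := h
    by_cases hF : p ∣ Fintype.card F
    · exact H406.SRow.Untw.srow_own_F4 hp h5 hR hF e
    · exact srow_f4_of hp B h5 (X.f4 hna hlt hF e) hF e
  · obtain ⟨F, _, _, ⟨e⟩⟩ := h
    by_cases hF : p ∣ Fintype.card F
    · exact H406.SRow.Untw.srow_own_E6 hp h5 hR hF e
    · by_cases hq : p ∣ Fintype.card F ^ 2 - 1
      · exact srow_e6_sq hp h5 hC hF hq e
      · exact srow_e6_of hp B h5 (X.e6 hna hlt hF hq e) hF e
  · obtain ⟨F, _, _, ⟨e⟩⟩ := h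
    by_cases hF : p ∣ Fintype.card F
    · exact H406.SRow.Untw.srow_own_E7 hp h5 hR hF e
    · by_cases hq : p ∣ Fintype.card F ^ 2 - 1
      · exact srow_e7_sq hp h5 hC hF hq e
      · exact srow_e7_of hp B h5 (X.e7 hna hlt hF hq e) hF e
  · obtain ⟨F, _, _, ⟨e⟩⟩ := h
    by_cases hF : p ∣ Fintype.card F
    · exact H406.SRow.Untw.srow_own_E8 hp h5 hR hF e
    · by_cases hq : p ∣ Fintype.card F ^ 2 - 1
      · exact srow_e8_sq hp h5 hC hF hq e
      · by_cases h7 : 7 ≤ p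
        · exact srow_e8_of hp B h5 (X.e8 hna hlt h7 hF hq e) hF e
        · have hp5 : p = 5 := by
            have h6 : p ≠ 6 := by rintro rfl; revert hp; norm_num
            omega
          subst hp5
          have hd : 5 ∣ Fintype.card F ^ 2 - 1 ∨ 5 ∣ Fintype.card F ^ 2 + 1 := dich hF
          exact srow_e8_five hC B (hd.resolve_left hq) e
  · obtain ⟨K, _, _, q, hq, hK, ⟨e⟩⟩ := h
    by_cases hF : p ∣ Fintype.card K
    · have := charP_of_dvd hp hF
      exact T S hna ⟨K, _, _, this, q, hq, Or.inl ⟨hK, ⟨e⟩⟩⟩ hlt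
    · have hpq : ¬ p ∣ q := fun h => hF (by rw [hK]; exact dvd_pow h (by norm_num))
      by_cases hq1 : p ∣ q ^ 2 - 1
      · exact srow_twE6_sq hp h5 hC hq hK hpq hq1 e
      · exact srow_twE6_of hp B h5 (X.tw6 hna hlt hq hK hpq hq1 e) hq hK hpq e
  · obtain ⟨K, _, _, q, hq, hK, ⟨e⟩⟩ := h
    by_cases hF : p ∣ Fintype.card K
    · have := charP_of_dvd hp hF
      exact T S hna ⟨K, _, _, this, q, hq, Or.inr ⟨hK, ⟨e⟩⟩⟩ hlt
    · have hpq : ¬ p ∣ q := fun h => hF (by rw [hK]; exact dvd_pow h (by norm_num))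
      exact srow_twD4_of hp B h5 (X.td4 hna hlt hq hK hpq e) hq hK hpq e
  · obtain ⟨F, _, _, m, hm, hF, ⟨e⟩⟩ := h
    exact Cfsg.Agent.H442.S5.srow_sz_all hm hF hp (by omega) e B
  · obtain ⟨K, _, _, m, hm, hK, ⟨e⟩⟩ := h
    exact Cfsg.Agent.H442.S5.srow_ree_all hm hK hp h5 e B
  · obtain ⟨K, _, _, m, hm, hK, ⟨e⟩⟩ := h
    exact Cfsg.Agent.H823.S5.srow_twF4 hp h5 B hna hlt hm hK e
  · exact Cfsg.Agent.H823.S5.srow_tits hp h5 B hna h

end Cfsg.Agent.H347.S2274.ExcRow
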