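import Cfsg.Agent.H132.S5.Main
import Cfsg.Agent.H132.S5.CycChar
import Cfsg.Agent.H977.T5SporA
import Cfsg.Agent.H505.OddInn
import Cfsg.Agent.OrdDiv.Table

/-!
# S2274: the strong rows of the sporadic groups and of the Tits group, dispatcher (task 3628)

`SBigS` : the rows with `p ^ 2` dividing the order (27 fields); `srowFam_spor`, `srowFam_tits`.
-/

set_option autoImplicit false

universe u

namespace Cfsg.Agent.H347.S2274

open Cfsg Cfsg.Agent.OrdDiv Cfsg.Agent.H533.T5 Cfsg.Agent.H106.MT Cfsg.Agent.H132.S5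
open Cfsg.Agent.H977.T5Spor (exists_real not_comm mem_primes)

/-- The strong rows of the sporadic groups whose order is divisible by `p ^ 2`, `p ≥ 5`, given the
rows of the smaller groups. -/
structure SBigS : Prop where
  j2 : SRowFam.{u} 5 (fun K _ => Spor.IsoJ2 K)
  j4 : SRowFam.{u} 11 (fun K _ => Spor.IsoJ4 K)
  co1_5 : SRowFam.{u} 5 (fun K _ => Spor.IsoCo1 K)
  co1_7 : SRowFam.{u} 7 (fun K _ => Spor.IsoCo1 K)
  co2 : SRowFam.{u} 5 (fun K _ => Spor.IsoCo2 K)
  co3 : SRowFam.{u} 5 (fun K _ => Spor.IsoCo3 K)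
  mcl : SRowFam.{u} 5 (fun K _ => Spor.IsoMcL K)
  hs : SRowFam.{u} 5 (fun K _ => Spor.IsoHS K)
  suz : SRowFam.{u} 5 (fun K _ => Spor.IsoSuz K)
  he_5 : SRowFam.{u} 5 (fun K _ => Spor.IsoHe K)
  he_7 : SRowFam.{u} 7 (fun K _ => Spor.IsoHe K)
  ru : SRowFam.{u} 5 (fun K _ => Spor.IsoRu K)
  on : SRowFam.{u} 7 (fun K _ => Spor.IsoON K)
  ly : SRowFam.{u} 5 (fun K _ => Spor.IsoLy K)
  fi22 : SRowFam.{u} 5 (fun K _ => Spor.IsoFi22 K)
  fi23 : SRowFam.{u} 5 (fun K _ => Spor.IsoFi23 K)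
  fi24_5 : SRowFam.{u} 5 (fun K _ => Spor.IsoFi24' K)
  fi24_7 : SRowFam.{u} 7 (fun K _ => Spor.IsoFi24' K)
  hn : SRowFam.{u} 5 (fun K _ => Spor.IsoHN K)
  th_5 : SRowFam.{u} 5 (fun K _ => Spor.IsoTh K)
  th_7 : SRowFam.{u} 7 (fun K _ => Spor.IsoTh K)
  b_5 : SRowFam.{u} 5 (fun K _ => Spor.IsoB K)
  b_7 : SRowFam.{u} 7 (fun K _ => Spor.IsoB K)
  m_5 : SRowFam.{u} 5 (fun K _ => Spor.IsoM K)
  m_7 : SRowFam.{u} 7 (fun K _ => Spor.IsoM K)
  m_11 : SRowFam.{u} 11 (fun K _ => Spor.IsoM K)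
  m_13 : SRowFam.{u} 13 (fun K _ => Spor.IsoM K)

/-- the names of the pairs with `p ^ 2` dividing the order -/
def L2 : List (Grp × ℕ) :=
  [(.tits, 5), (.j2, 5), (.j4, 11), (.co1, 5), (.co1, 7), (.co2, 5), (.co3, 5), (.mcl, 5), (.hs, 5),
    (.suz, 5), (.he, 5), (.he, 7), (.ru, 5), (.on, 7), (.ly, 5), (.fi22, 5), (.fi23, 5), (.fi24, 5),
    (.fi24, 7), (.hn, 5), (.th, 5), (.th, 7), (.b, 5), (.b, 7), (.m, 5), (.m, 7), (.m, 11), (.m, 13)]

theorem check2 : ∀ x ∈ spor, x.2 ∣ (Nat.factorial 71) ^ 46 ∧ 2 ∣ x.2 ∧ 2 < x.2 ∧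
    ∀ p ∈ [5, 7, 11, 13, 17, 19, 23, 29, 31, 37, 41, 43, 47, 53, 59, 61, 67, 71],
      p ^ 2 ∣ x.2 → (x.1, p) ∈ L2 := by
  decide +kernel

/-- **The strong rows of the sporadic groups and of the Tits group.** -/
theorem srow_both (M : SBigS.{u}) (htits : SRowFam.{u} 5 (fun K _ => Lie.IsoTits K)) {p : ℕ}
    (hp : p.Prime) (h5 : 5 ≤ p) (B : SBox.{u} p) {K : Type u} [Group K] [Finite K]
    [IsSimpleGroup K] (h : IsSporadicGroup K ∨ Lie.IsoTits K)
    (hlt : SBelow.{u} p (Nat.card K)) : SRow p K := by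
  have hpf : Fact p.Prime := ⟨hp⟩
  obtain ⟨x, hx, hr⟩ := exists_real h
  have hc : Nat.card K = x.2 := table.spor K x hx hr
  obtain ⟨h71, h2, h2', hL⟩ := check2 x hx
  have hna : ¬ IsMulCommutative K := not_comm (hc ▸ h2) (hc ▸ h2')
  have hinn : ∀ a : MulAut K, orderOf a = p → ∃ g : K, a = MulAut.conj g := by
    rcases h with h | h
    · exact Cfsg.Agent.H505.OddInn.oddInn_sporadic h p hp (by omega)
    · exact Cfsg.Agent.H505.OddInn.oddInn_tits h p hp (by omega)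
  by_cases hd : p ^ 2 ∣ Nat.card K
  · rw [hc] at hd
    have hp71 : p ≤ 71 := (hp.dvd_factorial).1 (hp.dvd_of_dvd_pow
      (((dvd_pow_self p (by norm_num)).trans hd).trans h71))
    have hm := hL p (mem_primes hp h5 hp71) hd
    have key : ∀ (g : Grp) (r : ℕ), (x.1, p) = (g, r) → (Real g K → SBelow.{u} r (Nat.card K) →
        SRow r K) → SRow p K := by
      intro g r he hw
      have h1 : x.1 = g := congrArg Prod.fst he
      have h3 : p = r := congrArg Prod.snd he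
      subst h3
      exact hw (h1 ▸ hr) hlt
    simp only [L2, List.mem_cons, List.not_mem_nil, or_false] at hm
    rcases hm with h | h | h | h | h | h | h | h | h | h | h | h | h | h | h | h | h | h | h | h |
      h | h | h | h | h | h | h | h
    · exact key _ _ h (htits K hna)
    · exact key _ _ h (M.j2 K hna)
    · exact key _ _ h (M.j4 K hna)
    · exact key _ _ h (M.co1_5 K hna)
    · exact key _ _ h (M.co1_7 K hna)
    · exact key _ _ h (M.co2 K hna)
    · exact key _ _ h (M.co3 K hna)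
    · exact key _ _ h (M.mcl K hna)
    · exact key _ _ h (M.hs K hna)
    · exact key _ _ h (M.suz K hna)
    · exact key _ _ h (M.he_5 K hna)
    · exact key _ _ h (M.he_7 K hna)
    · exact key _ _ h (M.ru K hna)
    · exact key _ _ h (M.on K hna)
    · exact key _ _ h (M.ly K hna)
    · exact key _ _ h (M.fi22 K hna)
    · exact key _ _ h (M.fi23 K hna)
    · exact key _ _ h (M.fi24_5 K hna)
    · exact key _ _ h (M.fi24_7 K hna)
    · exact key _ _ h (M.hn K hna)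
    · exact key _ _ h (M.th_5 K hna)
    · exact key _ _ h (M.th_7 K hna)
    · exact key _ _ h (M.b_5 K hna)
    · exact key _ _ h (M.b_7 K hna)
    · exact key _ _ h (M.m_5 K hna)
    · exact key _ _ h (M.m_7 K hna)
    · exact key _ _ h (M.m_11 K hna)
    · exact key _ _ h (M.m_13 K hna)
  · refine SRow.of_inner hna (fun a ha => ?_)
      (fun x y hx hy => spair_of_not_sq_dvd B.aa B.rs hna hd hx hy)
    obtain ⟨g, rfl⟩ := hinn a ha
    exact ⟨g, rfl⟩

/-- **The strong rows of the sporadic groups.** -/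
theorem srowFam_spor (M : SBigS.{u}) (htits : SRowFam.{u} 5 (fun K _ => Lie.IsoTits K)) {p : ℕ}
    (hp : p.Prime) (h5 : 5 ≤ p) (B : SBox.{u} p) :
    SRowFam.{u} p (fun S _ => IsSporadicGroup S) := by
  intro S _ _ _ _ h hlt
  exact srow_both M htits hp h5 B (Or.inl h) hlt

/-- **The strong rows of the Tits group** from `p = 5`. -/
theorem srowFam_tits (htits : SRowFam.{u} 5 (fun K _ => Lie.IsoTits K)) {p : ℕ}
    (hp : p.Prime) (h5 : 5 ≤ p) (B : SBox.{u} p) :
    SRowFam.{u} p (fun S _ => Lie.IsoTits S) := by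
  intro K _ _ _ hna h hlt
  have hpf : Fact p.Prime := ⟨hp⟩
  by_cases hp5 : p = 5
  · subst hp5
    exact htits K hna h hlt
  have hc : Nat.card K = 17971200 := table.spor K (.tits, 17971200) (by simp [spor]) h
  have hd : ¬ p ^ 2 ∣ Nat.card K := by
    rw [hc]
    intro hd
    have h1 : p ∣ 17971200 := (dvd_pow_self p (by norm_num)).trans hd
    have h2 : 17971200 = 2 ^ 11 * 3 ^ 3 * 5 ^ 2 * 13 := by norm_num
    rw [h2] at h1
    have h3 : p = 13 := by
      rcases (Nat.Prime.dvd_mul hp).1 h1 with h1 | h1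
      · exfalso
        rcases (Nat.Prime.dvd_mul hp).1 h1 with h1 | h1
        · rcases (Nat.Prime.dvd_mul hp).1 h1 with h1 | h1
          · have := Nat.le_of_dvd (by norm_num) (hp.dvd_of_dvd_pow h1); omega
          · have := Nat.le_of_dvd (by norm_num) (hp.dvd_of_dvd_pow h1); omega
        · exact hp5 ((Nat.prime_dvd_prime_iff_eq hp (by norm_num)).1 (hp.dvd_of_dvd_pow h1))
      · exact (Nat.prime_dvd_prime_iff_eq hp (by norm_num)).1 h1
    subst h3
    norm_num at hd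
  refine SRow.of_inner hna (fun a ha => ?_)
    (fun x y hx hy => spair_of_not_sq_dvd B.aa B.rs hna hd hx hy)
  obtain ⟨g, rfl⟩ := Cfsg.Agent.H505.OddInn.oddInn_tits h p hp (by omega) a ha
  exact ⟨g, rfl⟩

end Cfsg.Agent.H347.S2274
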